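import Groth.Agent.ResProp.EF.K980.Alg
import Groth.Agent.ResProp.EF.X56.NF

/-!
# The groupoid of points of a groupoid ring (W3a)

`gpdA hA : PGpd A⟨0⟩`: the arrows `x → y` over `R'` are the ring maps `γ : A⟨1⟩ →+* R'` with source `x` and target `y`.
`edge z i j`: the edges of a point `z : A⟨n⟩ →+* R'`; `edge_comp`, `edge_self`, `edge_inv`, `edge_pull`; every chain of
arrows is the chain of edges of a point (`glue`).
-/

set_option autoImplicit false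
set_option linter.dupNamespace false

open CategoryTheory Opposite

namespace Groth.Agent.ResProp.EF.K343

open K784.BC K784.PM K741.RP EF56 K980

universe u

/-- the edge `(i, j)` of `⟨n⟩` -/
def ed {n : ℕ} (i j : Fin (n + 1)) : (⟨n⟩ : NF) ⟶ ⟨1⟩ := (![i, j] : Fin 2 → Fin (n + 1))

theorem ed_pr {n : ℕ} (i j : Fin (n + 1)) : ed i j ≫ pr ⟨0⟩ = pt ⟨n⟩ i := by
  funext a
  have : a = 0 := Subsingleton.elim (α := Fin 1) _ _
  subst this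
  rfl

theorem ed_lst {n : ℕ} (i j : Fin (n + 1)) : ed i j ≫ lst ⟨0⟩ = pt ⟨n⟩ j := by
  funext a
  have : a = 0 := Subsingleton.elim (α := Fin 1) _ _
  subst this
  rfl

theorem comp_ed {m n : ℕ} (φ : (⟨m⟩ : NF) ⟶ ⟨n⟩) (i j : Fin (n + 1)) :
    φ ≫ ed i j = ed ((show Fin (n + 1) → Fin (m + 1) from φ) i) ((show Fin (n + 1) → Fin (m + 1) from φ) j) := by
  funext a
  fin_cases a <;> rfl

theorem comp_pt {m n : ℕ} (φ : (⟨m⟩ : NF) ⟶ ⟨n⟩) (i : Fin (n + 1)) :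
    φ ≫ pt ⟨n⟩ i = pt ⟨m⟩ ((show Fin (n + 1) → Fin (m + 1) from φ) i) := rfl

theorem ed_zero_one : ed (0 : Fin 2) 1 = 𝟙 (⟨1⟩ : NF) := by
  funext a
  fin_cases a <;> rfl

theorem pr_eq_pt : pr ⟨0⟩ = pt ⟨1⟩ 0 := by
  funext a
  have : a = 0 := Subsingleton.elim (α := Fin 1) _ _
  subst this
  rfl

theorem lst_eq_pt : lst ⟨0⟩ = pt ⟨1⟩ 1 := rfl

theorem pt_zero_eq : pt ⟨0⟩ 0 = 𝟙 (⟨0⟩ : NF) := by
  funext a
  have : a = 0 := Subsingleton.elim (α := Fin 1) _ _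
  subst this
  rfl

theorem wmap_pt {n : ℕ} (i : Fin (n + 1)) : wmap (pt ⟨n⟩ i) = ed i.castSucc (Fin.last (n + 1)) := by
  funext a
  fin_cases a
  · exact congrFun (wmap_pr (pt ⟨n⟩ i)) 0
  · exact congrFun (wmap_lst (pt ⟨n⟩ i)) 0

variable {A : NFᵒᵖ ⥤ CommRingCat.{u}} {R' : Type u} [CommRing R'] {R'' : Type u} [CommRing R'']

/-- two points of `⟨n + 1⟩` with the same restriction to `⟨n⟩` and the same last edge are equal -/
theorem pnt_ext (hA : GR A) {n : ℕ} (i : Fin (n + 1)) {z z' : A.obj (op ⟨n + 1⟩) →+* R'}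
    (h1 : z.comp (rg A (pr ⟨n⟩)) = z'.comp (rg A (pr ⟨n⟩)))
    (h2 : z.comp (rg A (ed i.castSucc (Fin.last (n + 1)))) = z'.comp (rg A (ed i.castSucc (Fin.last (n + 1))))) :
    z = z' := by
  rw [← wmap_pt] at h2
  have key := (hA.po (pt ⟨n⟩ i)).hom_ext (W := CommRingCat.of R') (k := CommRingCat.ofHom z) (l := CommRingCat.ofHom z')
    (CommRingCat.hom_ext h1) (CommRingCat.hom_ext h2)
  exact congrArg CommRingCat.Hom.hom key

theorem exists_glue (hA : GR A) {n : ℕ} (i : Fin (n + 1)) (z : A.obj (op ⟨n⟩) →+* R') (γ : A.obj (op ⟨1⟩) →+* R')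
    (h : z.comp (rg A (pt ⟨n⟩ i)) = γ.comp (rg A (pr ⟨0⟩))) :
    ∃ w : A.obj (op ⟨n + 1⟩) →+* R', w.comp (rg A (pr ⟨n⟩)) = z ∧
      w.comp (rg A (ed i.castSucc (Fin.last (n + 1)))) = γ := by
  rw [← wmap_pt]
  have po := hA.po (pt ⟨n⟩ i)
  refine ⟨(po.desc (W := CommRingCat.of R') (CommRingCat.ofHom z) (CommRingCat.ofHom γ)
    (CommRingCat.hom_ext h)).hom, ?_, ?_⟩
  · exact congrArg CommRingCat.Hom.hom (po.inl_desc (W := CommRingCat.of R') (CommRingCat.ofHom z) (CommRingCat.ofHom γ)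
      (CommRingCat.hom_ext h))
  · exact congrArg CommRingCat.Hom.hom (po.inr_desc (W := CommRingCat.of R') (CommRingCat.ofHom z) (CommRingCat.ofHom γ)
      (CommRingCat.hom_ext h))

/-- gluing an arrow at the vertex `i` -/
noncomputable def glue (hA : GR A) {n : ℕ} (i : Fin (n + 1)) (z : A.obj (op ⟨n⟩) →+* R') (γ : A.obj (op ⟨1⟩) →+* R')
    (h : z.comp (rg A (pt ⟨n⟩ i)) = γ.comp (rg A (pr ⟨0⟩))) : A.obj (op ⟨n + 1⟩) →+* R' :=
  (exists_glue hA i z γ h).choose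

theorem glue_pr (hA : GR A) {n : ℕ} (i : Fin (n + 1)) (z : A.obj (op ⟨n⟩) →+* R') (γ : A.obj (op ⟨1⟩) →+* R')
    (h : z.comp (rg A (pt ⟨n⟩ i)) = γ.comp (rg A (pr ⟨0⟩))) : (glue hA i z γ h).comp (rg A (pr ⟨n⟩)) = z :=
  (exists_glue hA i z γ h).choose_spec.1

theorem glue_ed (hA : GR A) {n : ℕ} (i : Fin (n + 1)) (z : A.obj (op ⟨n⟩) →+* R') (γ : A.obj (op ⟨1⟩) →+* R')
    (h : z.comp (rg A (pt ⟨n⟩ i)) = γ.comp (rg A (pr ⟨0⟩))) :
    (glue hA i z γ h).comp (rg A (ed i.castSucc (Fin.last (n + 1)))) = γ :=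
  (exists_glue hA i z γ h).choose_spec.2

/-- arrows over `R'` -/
abbrev Ar (A : NFᵒᵖ ⥤ CommRingCat.{u}) (x y : A.obj (op ⟨0⟩) →+* R') : Type u :=
  {γ : A.obj (op ⟨1⟩) →+* R' // γ.comp (rg A (pr ⟨0⟩)) = x ∧ γ.comp (rg A (lst ⟨0⟩)) = y}

theorem comp_rg_rg {a b : NF} (z : A.obj (op a) →+* R') (φ : a ⟶ b) {c : NF} (ψ : b ⟶ c) :
    (z.comp (rg A φ)).comp (rg A ψ) = z.comp (rg A (φ ≫ ψ)) := by
  rw [rg_comp, RingHom.comp_assoc]

/-- the edge `(i, j)` of a point -/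
def edge {n : ℕ} (z : A.obj (op ⟨n⟩) →+* R') (i j : Fin (n + 1)) {x y : A.obj (op ⟨0⟩) →+* R'}
    (hx : z.comp (rg A (pt ⟨n⟩ i)) = x) (hy : z.comp (rg A (pt ⟨n⟩ j)) = y) : Ar A x y :=
  ⟨z.comp (rg A (ed i j)), by rw [comp_rg_rg, ed_pr, hx], by rw [comp_rg_rg, ed_lst, hy]⟩

theorem edge_val {n : ℕ} (z : A.obj (op ⟨n⟩) →+* R') (i j : Fin (n + 1)) {x y : A.obj (op ⟨0⟩) →+* R'}
    (hx : z.comp (rg A (pt ⟨n⟩ i)) = x) (hy : z.comp (rg A (pt ⟨n⟩ j)) = y) :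
    (edge z i j hx hy).1 = z.comp (rg A (ed i j)) := rfl

theorem edge_restrict {m n : ℕ} (φ : (⟨m⟩ : NF) ⟶ ⟨n⟩) (z : A.obj (op ⟨m⟩) →+* R') (i j : Fin (n + 1))
    {x y : A.obj (op ⟨0⟩) →+* R'} (hx : (z.comp (rg A φ)).comp (rg A (pt ⟨n⟩ i)) = x)
    (hy : (z.comp (rg A φ)).comp (rg A (pt ⟨n⟩ j)) = y) :
    edge (z.comp (rg A φ)) i j hx hy = edge z ((show Fin (n + 1) → Fin (m + 1) from φ) i)
      ((show Fin (n + 1) → Fin (m + 1) from φ) j) (by rw [← hx, comp_rg_rg, comp_pt])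
      (by rw [← hy, comp_rg_rg, comp_pt]) :=
  Subtype.ext (by rw [edge_val, edge_val, comp_rg_rg, comp_ed])

theorem Ar.pt0 {x y : A.obj (op ⟨0⟩) →+* R'} (a : Ar A x y) : a.1.comp (rg A (pt ⟨1⟩ 0)) = x := by
  rw [← pr_eq_pt]; exact a.2.1

theorem Ar.pt1 {x y : A.obj (op ⟨0⟩) →+* R'} (a : Ar A x y) : a.1.comp (rg A (pt ⟨1⟩ 1)) = y := by
  rw [← lst_eq_pt]; exact a.2.2

theorem edge_eta {x y : A.obj (op ⟨0⟩) →+* R'} (a : Ar A x y) : edge a.1 0 1 a.pt0 a.pt1 = a :=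
  Subtype.ext (by rw [edge_val, ed_zero_one, rg_id, RingHom.comp_id])

/-- the point of `⟨2⟩` given by two composable arrows -/
noncomputable def pair (hA : GR A) {x y z : A.obj (op ⟨0⟩) →+* R'} (a : Ar A x y) (b : Ar A y z) :
    A.obj (op ⟨2⟩) →+* R' :=
  glue hA 1 a.1 b.1 (by rw [a.pt1, b.2.1])

theorem pr_one_eq : pr ⟨1⟩ = ed (0 : Fin 3) 1 := by
  funext a
  fin_cases a <;> rfl

theorem pair_01 (hA : GR A) {x y z : A.obj (op ⟨0⟩) →+* R'} (a : Ar A x y) (b : Ar A y z) :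
    (pair hA a b).comp (rg A (ed (0 : Fin 3) 1)) = a.1 := by
  rw [← pr_one_eq]; exact glue_pr hA _ _ _ _

theorem pair_12 (hA : GR A) {x y z : A.obj (op ⟨0⟩) →+* R'} (a : Ar A x y) (b : Ar A y z) :
    (pair hA a b).comp (rg A (ed (1 : Fin 3) 2)) = b.1 := glue_ed hA 1 _ _ _

theorem eq_pair (hA : GR A) {x y z : A.obj (op ⟨0⟩) →+* R'} (a : Ar A x y) (b : Ar A y z) {w : A.obj (op ⟨2⟩) →+* R'}
    (h1 : w.comp (rg A (ed (0 : Fin 3) 1)) = a.1) (h2 : w.comp (rg A (ed (1 : Fin 3) 2)) = b.1) : w = pair hA a b := by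
  refine pnt_ext hA 1 ?_ ?_
  · rw [pr_one_eq, h1, pair_01]
  · exact h2.trans (pair_12 hA a b).symm

theorem pair_pt0 (hA : GR A) {x y z : A.obj (op ⟨0⟩) →+* R'} (a : Ar A x y) (b : Ar A y z) :
    (pair hA a b).comp (rg A (pt ⟨2⟩ 0)) = x := by
  rw [← ed_pr 0 1, ← comp_rg_rg, pair_01, a.2.1]

theorem pair_pt1 (hA : GR A) {x y z : A.obj (op ⟨0⟩) →+* R'} (a : Ar A x y) (b : Ar A y z) :
    (pair hA a b).comp (rg A (pt ⟨2⟩ 1)) = y := by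
  rw [← ed_lst 0 1, ← comp_rg_rg, pair_01, a.2.2]

theorem pair_pt2 (hA : GR A) {x y z : A.obj (op ⟨0⟩) →+* R'} (a : Ar A x y) (b : Ar A y z) :
    (pair hA a b).comp (rg A (pt ⟨2⟩ 2)) = z := by
  rw [← ed_lst 1 2, ← comp_rg_rg, pair_12, b.2.2]

/-- identities -/
def Ar.one (x : A.obj (op ⟨0⟩) →+* R') : Ar A x x :=
  edge x 0 0 (by rw [pt_zero_eq, rg_id, RingHom.comp_id]) (by rw [pt_zero_eq, rg_id, RingHom.comp_id])

/-- composition -/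
noncomputable def Ar.mul (hA : GR A) {x y z : A.obj (op ⟨0⟩) →+* R'} (a : Ar A x y) (b : Ar A y z) : Ar A x z :=
  edge (pair hA a b) 0 2 (pair_pt0 hA a b) (pair_pt2 hA a b)

/-- inverses -/
def Ar.inv {x y : A.obj (op ⟨0⟩) →+* R'} (a : Ar A x y) : Ar A y x := edge a.1 1 0 a.pt1 a.pt0

/-- functoriality -/
def Ar.pull (f : R' →+* R'') {x y : A.obj (op ⟨0⟩) →+* R'} {x' y' : A.obj (op ⟨0⟩) →+* R''} (hx : f.comp x = x')
    (hy : f.comp y = y') (a : Ar A x y) : Ar A x' y' :=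
  ⟨f.comp a.1, by rw [RingHom.comp_assoc, a.2.1, hx], by rw [RingHom.comp_assoc, a.2.2, hy]⟩

theorem pull_val (f : R' →+* R'') {x y : A.obj (op ⟨0⟩) →+* R'} {x' y' : A.obj (op ⟨0⟩) →+* R''} (hx : f.comp x = x')
    (hy : f.comp y = y') (a : Ar A x y) : (a.pull f hx hy).1 = f.comp a.1 := rfl

theorem edge_self {n : ℕ} (w : A.obj (op ⟨n⟩) →+* R') (i : Fin (n + 1)) {x : A.obj (op ⟨0⟩) →+* R'}
    (hx hx' : w.comp (rg A (pt ⟨n⟩ i)) = x) : edge w i i hx hx' = Ar.one x := by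
  apply Subtype.ext
  subst hx
  rw [Ar.one, edge_val, edge_val, comp_rg_rg, comp_ed]
  rfl

theorem edge_mul (hA : GR A) {n : ℕ} (w : A.obj (op ⟨n⟩) →+* R') (i j k : Fin (n + 1)) {x y z : A.obj (op ⟨0⟩) →+* R'}
    (hx : w.comp (rg A (pt ⟨n⟩ i)) = x) (hy : w.comp (rg A (pt ⟨n⟩ j)) = y) (hz : w.comp (rg A (pt ⟨n⟩ k)) = z) :
    (edge w i j hx hy).mul hA (edge w j k hy hz) = edge w i k hx hz := by
  let φ : (⟨n⟩ : NF) ⟶ ⟨2⟩ := (![i, j, k] : Fin 3 → Fin (n + 1))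
  have h := eq_pair hA (edge w i j hx hy) (edge w j k hy hz) (w := w.comp (rg A φ))
    (by rw [comp_rg_rg, comp_ed, edge_val]; rfl) (by rw [comp_rg_rg, comp_ed, edge_val]; rfl)
  apply Subtype.ext
  rw [Ar.mul, edge_val, ← h, comp_rg_rg, comp_ed, edge_val]
  rfl

theorem edge_inv {n : ℕ} (w : A.obj (op ⟨n⟩) →+* R') (i j : Fin (n + 1)) {x y : A.obj (op ⟨0⟩) →+* R'}
    (hx : w.comp (rg A (pt ⟨n⟩ i)) = x) (hy : w.comp (rg A (pt ⟨n⟩ j)) = y) :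
    (edge w i j hx hy).inv = edge w j i hy hx := by
  apply Subtype.ext
  rw [Ar.inv, edge_val, edge_val, edge_val, comp_rg_rg, comp_ed]
  rfl

theorem edge_pull {n : ℕ} (w : A.obj (op ⟨n⟩) →+* R') (i j : Fin (n + 1)) (f : R' →+* R'')
    {x y : A.obj (op ⟨0⟩) →+* R'} {x' y' : A.obj (op ⟨0⟩) →+* R''} (hx : w.comp (rg A (pt ⟨n⟩ i)) = x)
    (hy : w.comp (rg A (pt ⟨n⟩ j)) = y) (hx' : f.comp x = x') (hy' : f.comp y = y') :
    (edge w i j hx hy).pull f hx' hy' = edge (f.comp w) i j (by rw [RingHom.comp_assoc, hx, hx'])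
      (by rw [RingHom.comp_assoc, hy, hy']) :=
  Subtype.ext (by rw [pull_val, edge_val, edge_val, RingHom.comp_assoc])

theorem eq_edge_pair_01 (hA : GR A) {x y z : A.obj (op ⟨0⟩) →+* R'} (a : Ar A x y) (b : Ar A y z) :
    a = edge (pair hA a b) 0 1 (pair_pt0 hA a b) (pair_pt1 hA a b) :=
  Subtype.ext (by rw [edge_val, pair_01])

theorem eq_edge_pair_12 (hA : GR A) {x y z : A.obj (op ⟨0⟩) →+* R'} (a : Ar A x y) (b : Ar A y z) :
    b = edge (pair hA a b) 1 2 (pair_pt1 hA a b) (pair_pt2 hA a b) :=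
  Subtype.ext (by rw [edge_val, pair_12])

theorem Ar.one_mul (hA : GR A) {x y : A.obj (op ⟨0⟩) →+* R'} (a : Ar A x y) : (Ar.one x).mul hA a = a := by
  have h := edge_mul hA a.1 0 0 1 a.pt0 a.pt0 a.pt1
  rwa [edge_self, edge_eta] at h

theorem Ar.mul_one (hA : GR A) {x y : A.obj (op ⟨0⟩) →+* R'} (a : Ar A x y) : a.mul hA (Ar.one y) = a := by
  have h := edge_mul hA a.1 0 1 1 a.pt0 a.pt1 a.pt1
  rwa [edge_self, edge_eta] at h

theorem Ar.mul_inv (hA : GR A) {x y : A.obj (op ⟨0⟩) →+* R'} (a : Ar A x y) : a.mul hA a.inv = Ar.one x := by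
  have h := edge_mul hA a.1 0 1 0 a.pt0 a.pt1 a.pt0
  rwa [edge_self, edge_eta] at h

theorem Ar.inv_mul (hA : GR A) {x y : A.obj (op ⟨0⟩) →+* R'} (a : Ar A x y) : a.inv.mul hA a = Ar.one y := by
  have h := edge_mul hA a.1 1 0 1 a.pt1 a.pt0 a.pt1
  rwa [edge_self, edge_eta] at h

theorem Ar.mul_assoc (hA : GR A) {x y z t : A.obj (op ⟨0⟩) →+* R'} (a : Ar A x y) (b : Ar A y z) (c : Ar A z t) :
    (a.mul hA b).mul hA c = a.mul hA (b.mul hA c) := by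
  have hw : (pair hA a b).comp (rg A (pt ⟨2⟩ 2)) = c.1.comp (rg A (pr ⟨0⟩)) := by rw [pair_pt2, c.2.1]
  set w := glue hA 2 (pair hA a b) c.1 hw with hwdef
  have e1 : w.comp (rg A (pr ⟨2⟩)) = pair hA a b := glue_pr hA _ _ _ _
  have e2 : w.comp (rg A (ed (2 : Fin 4) 3)) = c.1 := glue_ed hA 2 _ _ _
  have ea : w.comp (rg A (ed (0 : Fin 4) 1)) = a.1 := by
    rw [← pair_01 hA a b, ← e1, comp_rg_rg, comp_ed]; rfl
  have eb : w.comp (rg A (ed (1 : Fin 4) 2)) = b.1 := by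
    rw [← pair_12 hA a b, ← e1, comp_rg_rg, comp_ed]; rfl
  have h0 : w.comp (rg A (pt ⟨3⟩ 0)) = x := by rw [← ed_pr 0 1, ← comp_rg_rg, ea, a.2.1]
  have h1 : w.comp (rg A (pt ⟨3⟩ 1)) = y := by rw [← ed_lst 0 1, ← comp_rg_rg, ea, a.2.2]
  have h2 : w.comp (rg A (pt ⟨3⟩ 2)) = z := by rw [← ed_lst 1 2, ← comp_rg_rg, eb, b.2.2]
  have h3 : w.comp (rg A (pt ⟨3⟩ 3)) = t := by rw [← ed_lst 2 3, ← comp_rg_rg, e2, c.2.2]
  have fa : a = edge w 0 1 h0 h1 := Subtype.ext ea.symm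
  have fb : b = edge w 1 2 h1 h2 := Subtype.ext eb.symm
  have fc : c = edge w 2 3 h2 h3 := Subtype.ext e2.symm
  rw [fa, fb, fc, edge_mul, edge_mul, edge_mul, edge_mul]

theorem Ar.pull_mul (hA : GR A) (f : R' →+* R'') {x y z : A.obj (op ⟨0⟩) →+* R'} {x' y' z' : A.obj (op ⟨0⟩) →+* R''}
    (hx : f.comp x = x') (hy : f.comp y = y') (hz : f.comp z = z') (a : Ar A x y) (b : Ar A y z) :
    (a.mul hA b).pull f hx hz = (a.pull f hx hy).mul hA (b.pull f hy hz) := by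
  have h : ∀ (w : A.obj (op ⟨2⟩) →+* R') (h0 : w.comp (rg A (pt ⟨2⟩ 0)) = x) (h1 : w.comp (rg A (pt ⟨2⟩ 1)) = y)
      (h2 : w.comp (rg A (pt ⟨2⟩ 2)) = z), ((edge w 0 1 h0 h1).mul hA (edge w 1 2 h1 h2)).pull f hx hz =
        ((edge w 0 1 h0 h1).pull f hx hy).mul hA ((edge w 1 2 h1 h2).pull f hy hz) := by
    intro w h0 h1 h2
    rw [edge_mul, edge_pull, edge_pull, edge_pull, edge_mul]
  have h' := h (pair hA a b) (pair_pt0 hA a b) (pair_pt1 hA a b) (pair_pt2 hA a b)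
  rwa [← eq_edge_pair_01, ← eq_edge_pair_12] at h'

/-- **the groupoid of points of a groupoid ring** -/
noncomputable def gpdA (hA : GR A) : PGpd.{u} (A.obj (op ⟨0⟩)) where
  Hom x y := Ar A x y
  id x := Ar.one x
  comp a b := a.mul hA b
  inv a := a.inv
  id_comp a := a.one_mul hA
  comp_id a := a.mul_one hA
  comp_assoc a b c := a.mul_assoc hA b c
  comp_inv a := a.mul_inv hA
  inv_comp a := a.inv_mul hA
  pull f _ _ _ _ hx hy a := a.pull f hx hy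
  pull_id f x x' hx := by
    apply Subtype.ext
    rw [pull_val, Ar.one, Ar.one, edge_val, edge_val, ← hx, RingHom.comp_assoc]
  pull_comp f _ _ _ _ _ _ hx hy hz a b := Ar.pull_mul hA f hx hy hz a b
  pull_idRing a := Subtype.ext (RingHom.id_comp _)
  pull_pull f g _ _ _ _ _ _ _ _ _ _ _ _ a := Subtype.ext (RingHom.comp_assoc _ _ _)

end Groth.Agent.ResProp.EF.K343
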