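import Groth.Agent.ResProp.EF.K343.GpdH
import Groth.Agent.ResProp.EF.K431.LevPM

/-!
# Cartesian modules with an `H`-coaction as modules over the groupoid of points (W3a)

`up M hM φ z hw : BC w (M.obj b) ≃ BC z (M.obj a)` for `φ : a ⟶ b`, `w = z ∘ rg A φ`.
`eqModG : EqMod (gpdA hA) (M.obj ⟨0⟩)`, `eqModGH : EqMod (gpdAH hA H) (M.obj ⟨0⟩)`; the action is characterised by
`up_actG` (through `M⟨1⟩`), `up_act_edge` (through `M⟨n⟩`).
-/

set_option autoImplicit false
set_option linter.dupNamespace false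

open CategoryTheory Opposite TensorProduct

noncomputable section

namespace Groth.Agent.ResProp.EF.K343

open K784.BC K784.PM K741.RP EF56 K980 Grp Arch

universe u

variable {A : NFᵒᵖ ⥤ CommRingCat.{u}} {R' : Type u} [CommRing R'] {R'' : Type u} [CommRing R'']

section Up

variable (M : PM.{u} A)

/-- the comparison `BC w (M.obj b) → BC z (M.obj a)` -/
def upl {a b : NF} (φ : a ⟶ b) (z : A.obj (op a) →+* R') {w : A.obj (op b) →+* R'} (hw : z.comp (rg A φ) = w) :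
    BC w (M.obj b) →ₗ[R'] BC z (M.obj a) :=
  BC.lift (σ := RingHom.id R') (τ := w) (RingHom.id_comp w)
    { toFun := fun m => bc z (M.map φ m)
      map_add' := fun m m' => by rw [map_add, map_add]
      map_smul' := fun r m => by rw [M.map_smul, LinearMap.map_smulₛₗ, ← hw]; rfl }

@[simp] theorem upl_bc {a b : NF} (φ : a ⟶ b) (z : A.obj (op a) →+* R') {w : A.obj (op b) →+* R'}
    (hw : z.comp (rg A φ) = w) (m : M.obj b) : upl M φ z hw (bc w m) = bc z (M.map φ m) := BC.lift_bc _ _ m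

variable {M} (hM : M.Cart)

include hM in
theorem upl_bijective {a b : NF} (φ : a ⟶ b) (z : A.obj (op a) →+* R') {w : A.obj (op b) →+* R'}
    (hw : z.comp (rg A φ) = w) : Function.Bijective (upl M φ z hw) := by
  subst hw
  have h1 : IsBC (z.comp (rg A φ)) ((bc z : M.obj a →ₛₗ[z] BC z (M.obj a)).toAddMonoidHom.comp (M.map φ)) :=
    IsBC.comp (hM φ) (K431.isBC_bc z (M.obj a))
  exact (K431.isBC_bc (z.comp (rg A φ)) (M.obj b)).bijective_of_isBC h1 (upl M φ z rfl) fun m => upl_bc M φ z rfl m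

/-- the comparison, as an equivalence -/
def up {a b : NF} (φ : a ⟶ b) (z : A.obj (op a) →+* R') {w : A.obj (op b) →+* R'} (hw : z.comp (rg A φ) = w) :
    BC w (M.obj b) ≃ₗ[R'] BC z (M.obj a) := LinearEquiv.ofBijective (upl M φ z hw) (upl_bijective hM φ z hw)

@[simp] theorem up_bc {a b : NF} (φ : a ⟶ b) (z : A.obj (op a) →+* R') {w : A.obj (op b) →+* R'}
    (hw : z.comp (rg A φ) = w) (m : M.obj b) : up hM φ z hw (bc w m) = bc z (M.map φ m) := upl_bc M φ z hw m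

theorem up_up {a b c : NF} (φ : a ⟶ b) (ψ : b ⟶ c) (z : A.obj (op a) →+* R') {w : A.obj (op b) →+* R'}
    {v : A.obj (op c) →+* R'} (hw : z.comp (rg A φ) = w) (hv : w.comp (rg A ψ) = v) (hv' : z.comp (rg A (φ ≫ ψ)) = v)
    (t : BC v (M.obj c)) : up hM φ z hw (up hM ψ w hv t) = up hM (φ ≫ ψ) z hv' t := by
  induction t using BC.ind with
  | h0 => simp
  | h1 r m => simp [M.map_comp]
  | h2 s t hs ht => rw [map_add, map_add, map_add, hs, ht]

theorem up_congr {a b : NF} {φ ψ : a ⟶ b} (h : φ = ψ) (z : A.obj (op a) →+* R') {w : A.obj (op b) →+* R'}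
    (hw : z.comp (rg A φ) = w) (hw' : z.comp (rg A ψ) = w) (t : BC w (M.obj b)) :
    up hM φ z hw t = up hM ψ z hw' t := by
  subst h; rfl

theorem up_id {a : NF} {φ : a ⟶ a} (hφ : φ = 𝟙 a) (z : A.obj (op a) →+* R') (hw : z.comp (rg A φ) = z)
    (t : BC z (M.obj a)) : up hM φ z hw t = t := by
  subst hφ
  induction t using BC.ind with
  | h0 => simp
  | h1 r m => simp [M.map_id]
  | h2 s t hs ht => rw [map_add, hs, ht]

theorem up_tr {a b : NF} (φ : a ⟶ b) (z : A.obj (op a) →+* R') {w : A.obj (op b) →+* R'} (hw : z.comp (rg A φ) = w)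
    (f : R' →+* R'') {z' : A.obj (op a) →+* R''} {w' : A.obj (op b) →+* R''} (hz : f.comp z = z') (hw₁ : f.comp w = w')
    (hw' : z'.comp (rg A φ) = w') (t : BC w (M.obj b)) :
    up hM φ z' hw' (BC.tr f hw₁ t) = BC.tr f hz (up hM φ z hw t) := by
  induction t using BC.ind with
  | h0 => simp
  | h1 r m => simp [LinearMap.map_smulₛₗ]
  | h2 s t hs ht => rw [map_add, map_add, map_add, map_add, hs, ht]

/-- the action of an arrow -/
def actG {x y : A.obj (op ⟨0⟩) →+* R'} (g : Ar A x y) : BC x (M.obj ⟨0⟩) ≃ₗ[R'] BC y (M.obj ⟨0⟩) :=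
  (up hM (pr ⟨0⟩) g.1 g.2.1).trans (up hM (lst ⟨0⟩) g.1 g.2.2).symm

/-- the characterisation through `M⟨1⟩` -/
theorem up_actG {x y : A.obj (op ⟨0⟩) →+* R'} (g : Ar A x y) (t : BC x (M.obj ⟨0⟩)) :
    up hM (lst ⟨0⟩) g.1 g.2.2 (actG hM g t) = up hM (pr ⟨0⟩) g.1 g.2.1 t := by
  rw [actG, LinearEquiv.trans_apply, LinearEquiv.apply_symm_apply]

/-- the characterisation through `M⟨n⟩` -/
theorem up_act_edge {n : ℕ} (z : A.obj (op ⟨n⟩) →+* R') (i j : Fin (n + 1)) {x y : A.obj (op ⟨0⟩) →+* R'}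
    (hx : z.comp (rg A (pt ⟨n⟩ i)) = x) (hy : z.comp (rg A (pt ⟨n⟩ j)) = y) (t : BC x (M.obj ⟨0⟩)) :
    up hM (pt ⟨n⟩ j) z hy (actG hM (edge z i j hx hy) t) = up hM (pt ⟨n⟩ i) z hx t := by
  have h1 := up_actG hM (edge z i j hx hy) t
  have h2 := congrArg (up hM (ed i j) z (w := (edge z i j hx hy).1) rfl) h1
  rw [up_up hM (ed i j) (lst ⟨0⟩) z (w := (edge z i j hx hy).1) rfl (edge z i j hx hy).2.2 (by rw [ed_lst, hy]),
    up_up hM (ed i j) (pr ⟨0⟩) z (w := (edge z i j hx hy).1) rfl (edge z i j hx hy).2.1 (by rw [ed_pr, hx])] at h2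
  rw [← up_congr hM (ed_lst i j) z (by rw [ed_lst, hy]) hy, ← up_congr hM (ed_pr i j) z (by rw [ed_pr, hx]) hx]
  exact h2

theorem actG_eq_iff {n : ℕ} (z : A.obj (op ⟨n⟩) →+* R') (i j : Fin (n + 1)) {x y : A.obj (op ⟨0⟩) →+* R'}
    (hx : z.comp (rg A (pt ⟨n⟩ i)) = x) (hy : z.comp (rg A (pt ⟨n⟩ j)) = y) (t : BC x (M.obj ⟨0⟩))
    (s : BC y (M.obj ⟨0⟩)) : actG hM (edge z i j hx hy) t = s ↔
      up hM (pt ⟨n⟩ i) z hx t = up hM (pt ⟨n⟩ j) z hy s := by
  rw [← up_act_edge hM z i j hx hy t]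
  exact (up hM (pt ⟨n⟩ j) z hy).injective.eq_iff.symm

theorem actG_one (x : A.obj (op ⟨0⟩) →+* R') (t : BC x (M.obj ⟨0⟩)) : actG hM (Ar.one x) t = t := by
  rw [Ar.one, actG_eq_iff]

theorem actG_mul (hA : GR A) {x y z : A.obj (op ⟨0⟩) →+* R'} (a : Ar A x y) (b : Ar A y z) (t : BC x (M.obj ⟨0⟩)) :
    actG hM (a.mul hA b) t = actG hM b (actG hM a t) := by
  have h : ∀ (w : A.obj (op ⟨2⟩) →+* R') (h0 : w.comp (rg A (pt ⟨2⟩ 0)) = x) (h1 : w.comp (rg A (pt ⟨2⟩ 1)) = y)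
      (h2 : w.comp (rg A (pt ⟨2⟩ 2)) = z), actG hM ((edge w 0 1 h0 h1).mul hA (edge w 1 2 h1 h2)) t =
        actG hM (edge w 1 2 h1 h2) (actG hM (edge w 0 1 h0 h1) t) := by
    intro w h0 h1 h2
    rw [edge_mul, actG_eq_iff, up_act_edge, up_act_edge]
  have h' := h (pair hA a b) (pair_pt0 hA a b) (pair_pt1 hA a b) (pair_pt2 hA a b)
  rwa [← eq_edge_pair_01, ← eq_edge_pair_12] at h'

theorem actG_pull (f : R' →+* R'') {x y : A.obj (op ⟨0⟩) →+* R'} {x' y' : A.obj (op ⟨0⟩) →+* R''} (hx : f.comp x = x')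
    (hy : f.comp y = y') (a : Ar A x y) (t : BC x (M.obj ⟨0⟩)) :
    actG hM (a.pull f hx hy) (BC.tr f hx t) = BC.tr f hy (actG hM a t) := by
  apply (up hM (lst ⟨0⟩) (a.pull f hx hy).1 (a.pull f hx hy).2.2).injective
  rw [up_actG]
  rw [up_tr hM (pr ⟨0⟩) a.1 a.2.1 f (z' := (a.pull f hx hy).1) rfl hx (a.pull f hx hy).2.1,
    up_tr hM (lst ⟨0⟩) a.1 a.2.2 f (z' := (a.pull f hx hy).1) rfl hy (a.pull f hx hy).2.2, up_actG]

/-- **cartesian modules as modules over the groupoid of points** -/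
def eqModG (hA : GR A) : EqMod (gpdA hA) (M.obj ⟨0⟩) where
  act a := actG hM a
  act_id x := LinearEquiv.ext (actG_one hM x)
  act_comp a b := LinearEquiv.ext (actG_mul hM hA a b)
  act_pull f x y x' y' hx hy a := by
    apply LinearEquiv.toLinearMap_injective
    refine BC.hom_ext_tr hx fun m => ?_
    exact (actG_pull hM f hx hy a m).trans (BC.pullE_tr hx hy (actG hM a) m).symm

end Up

/-! ### with `H` -/

section H

variable {k : Type u} [CommRing k] [GRF k A] {H : Gp k} {M : PM.{u} A} (hM : M.Cart) (e : ECo H M)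

/-- the action of a point of `H` on `BC z (M.obj a)` -/
def actH {a : NF} (z : A.obj (op a) →+* R') (h : Hpt H (kap k z)) : BC z (M.obj a) ≃ₗ[R'] BC z (M.obj a) :=
  TE z (e.co a) (e.lin a) h

theorem actH_bc {a : NF} (z : A.obj (op a) →+* R') (h : Hpt H (kap k z)) (m : M.obj a) :
    actH e z h (bc z m) = evB z h ((e.co a).coact m) := TT_bc z (e.co a) (e.lin a) h m

theorem up_actH {a b : NF} (φ : a ⟶ b) (z : A.obj (op a) →+* R') {w : A.obj (op b) →+* R'} (hw : z.comp (rg A φ) = w)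
    (hk : kap k w = kap k z) (h : Hpt H (kap k w)) (t : BC w (M.obj b)) :
    up hM φ z hw (actH e w h t) = actH e z (h.cast hk) (up hM φ z hw t) :=
  TT_nat w z (e.co b) (e.lin b) (e.co a) (e.lin a) (mapk (k := k) M φ) (e.nat φ) (up hM φ z hw).toLinearMap
    (fun m => up_bc hM φ z hw m) hk h t

theorem actG_actH {x y : A.obj (op ⟨0⟩) →+* R'} (a : Ar A x y) (h : Hpt H (kap k x)) (t : BC x (M.obj ⟨0⟩)) :
    actG hM a (actH e x h t) = actH e y (h.cast a.kap_eq.symm) (actG hM a t) := by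
  have k1 : kap k x = kap k a.1 := (congrArg (kap k) a.2.1).symm.trans (kap_rg _ _)
  have k2 : kap k y = kap k a.1 := (congrArg (kap k) a.2.2).symm.trans (kap_rg _ _)
  apply (up hM (lst ⟨0⟩) a.1 a.2.2).injective
  rw [up_actG, up_actH hM e (pr ⟨0⟩) a.1 a.2.1 k1, up_actH hM e (lst ⟨0⟩) a.1 a.2.2 k2, up_actG]
  rfl

theorem actH_mul {a : NF} (z : A.obj (op a) →+* R') (h h' : Hpt H (kap k z)) (t : BC z (M.obj a)) :
    actH e z (h' * h) t = actH e z h' (actH e z h t) := by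
  rw [actH, TE_mul]; rfl

theorem actH_one {a : NF} (z : A.obj (op a) →+* R') (t : BC z (M.obj a)) : actH e z 1 t = t := by
  rw [actH, TE_one]; rfl

theorem actH_tr {a : NF} (z : A.obj (op a) →+* R') (f : R' →+* R'') {z' : A.obj (op a) →+* R''} (hz : f.comp z = z')
    (h : Hpt H (kap k z)) (t : BC z (M.obj a)) :
    actH e z' (h.pull f (by rw [kap_comp, hz])) (BC.tr f hz t) = BC.tr f hz (actH e z h t) :=
  TT_tr (e.co a) (e.lin a) f hz h t

/-- **`(Γ, H)`-modules as modules over the groupoid of points**; the `H`-part acts first -/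
def eqModGH (hA : GR A) : EqMod (gpdAH hA H) (M.obj ⟨0⟩) where
  act {_ _ x _} a := (actH e x (toH a)).trans (actG hM (toG a))
  act_id x := LinearEquiv.ext fun t => by
    rw [LinearEquiv.trans_apply, toH_id, toG_id, actH_one, actG_one]; rfl
  act_comp a b := LinearEquiv.ext fun t => by
    rw [LinearEquiv.trans_apply, LinearEquiv.trans_apply, LinearEquiv.trans_apply, LinearEquiv.trans_apply, toG_comp,
      toH_comp, actG_mul, actH_mul, actG_actH]
    rfl
  act_pull f x y x' y' hx hy a := by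
    apply LinearEquiv.toLinearMap_injective
    refine BC.hom_ext_tr hx fun m => ?_
    refine Eq.trans ?_ (BC.pullE_tr hx hy _ m).symm
    rw [LinearEquiv.coe_coe, LinearEquiv.trans_apply, LinearEquiv.trans_apply, toG_pull, toH_pull, actH_tr, actG_pull]

theorem eqModGH_act (hA : GR A) {x y : A.obj (op ⟨0⟩) →+* R'} (a : (gpdAH hA H).Hom x y) (t : BC x (M.obj ⟨0⟩)) :
    (eqModGH hM e hA).act a t = actG hM (toG a) (actH e x (toH a) t) := rfl

end H

end Groth.Agent.ResProp.EF.K343
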