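import Groth.Agent.ResProp.EF.K980.Alg
import Groth.Agent.ResProp.EF.K208.Pts

/-!
# Points of `H` over a ring with a structure map, and their action on base changes (W3a)

`Hpt H κ`: the ring maps `h : H.O →+* R'` with `h ∘ algebraMap = κ`, a group; `Hpt.cast`, `Hpt.pull`.
`TT co lin x h : BC x M →ₗ[R'] BC x M`: the action of `h` on the base change of a comodule (`bc m ↦ ∑ h(m₁) • bc m₀`),
`TT_mul : TT (h' * h) = TT h' ∘ TT h`.
-/

set_option autoImplicit false
set_option linter.dupNamespace false

open TensorProduct WithConv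

noncomputable section

namespace Groth.Agent.ResProp.EF.K343

open K980 Grp K208 K104

universe u

variable {k : Type u} [CommRing k] (H : Gp k) {R' : Type u} [CommRing R'] {R'' : Type u} [CommRing R'']

/-- the points of `H` over `R'`, where `κ : k →+* R'` is the structure map -/
def Hpt (κ : k →+* R') : Type u := {h : H.O →+* R' // h.comp (algebraMap k H.O) = κ}

variable {H}

/-- comparison with `pts H` -/
def hEquiv (κ : k →+* R') : Hpt H κ ≃ @GFun.pt k _ (pts H) R' _ κ.toAlgebra :=
  letI := κ.toAlgebra
  { toFun := fun h => toConv ({ h.1 with commutes' := fun r => RingHom.congr_fun h.2 r } : H.O →ₐ[k] R')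
    invFun := fun f => ⟨(ofConv f : H.O →ₐ[k] R').toRingHom, by
      ext r
      exact (ofConv f : H.O →ₐ[k] R').commutes r⟩
    left_inv := fun h => rfl
    right_inv := fun f => rfl }

instance (κ : k →+* R') : Group (Hpt H κ) :=
  letI := κ.toAlgebra
  letI : Group (@GFun.pt k _ (pts H) R' _ κ.toAlgebra) := GFun.grp (pts H) R'
  (hEquiv κ).group

namespace Hpt

theorem ext {κ : k →+* R'} {h h' : Hpt H κ} (e : ∀ o, h.1 o = h'.1 o) : h = h' := Subtype.ext (RingHom.ext e)

theorem mul_val {κ : k →+* R'} (h h' : Hpt H κ) {o : H.O} {ι : Type*} (r : Coalgebra.Repr k o ι) :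
    (h * h').1 o = ∑ i ∈ r.index, h.1 (r.left i) * h'.1 (r.right i) := by
  letI := κ.toAlgebra
  change ((Algebra.TensorProduct.lmul' k).comp (Algebra.TensorProduct.map (ofConv (hEquiv κ h) : H.O →ₐ[k] R')
    (ofConv (hEquiv κ h') : H.O →ₐ[k] R'))) (Coalgebra.comul o) = _
  rw [← r.eq, map_sum]
  rfl

theorem one_val (κ : k →+* R') (o : H.O) : (1 : Hpt H κ).1 o = κ (Coalgebra.counit o) := rfl

/-- transport along an equality of structure maps -/
def cast {κ κ' : k →+* R'} (e : κ = κ') (h : Hpt H κ) : Hpt H κ' := ⟨h.1, h.2.trans e⟩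

@[simp] theorem cast_val {κ κ' : k →+* R'} (e : κ = κ') (h : Hpt H κ) : (cast e h).1 = h.1 := rfl

theorem cast_rfl {κ : k →+* R'} (e : κ = κ) (h : Hpt H κ) : cast e h = h := rfl

theorem cast_cast {κ κ' κ'' : k →+* R'} (e : κ = κ') (e' : κ' = κ'') (h : Hpt H κ) :
    cast e' (cast e h) = cast (e.trans e') h := rfl

theorem cast_mul {κ κ' : k →+* R'} (e : κ = κ') (h h' : Hpt H κ) : cast e (h * h') = cast e h * cast e h' := by
  subst e; rfl

theorem cast_one {κ κ' : k →+* R'} (e : κ = κ') : cast e (1 : Hpt H κ) = 1 := by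
  subst e; rfl

theorem cast_inv {κ κ' : k →+* R'} (e : κ = κ') (h : Hpt H κ) : cast e h⁻¹ = (cast e h)⁻¹ := by
  subst e; rfl

/-- functoriality -/
def pull (f : R' →+* R'') {κ : k →+* R'} {κ' : k →+* R''} (e : f.comp κ = κ') (h : Hpt H κ) : Hpt H κ' :=
  ⟨f.comp h.1, by rw [RingHom.comp_assoc, h.2, e]⟩

@[simp] theorem pull_val (f : R' →+* R'') {κ : k →+* R'} {κ' : k →+* R''} (e : f.comp κ = κ') (h : Hpt H κ) :
    (pull f e h).1 = f.comp h.1 := rfl

theorem pull_mul (f : R' →+* R'') {κ : k →+* R'} {κ' : k →+* R''} (e : f.comp κ = κ') (h h' : Hpt H κ) :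
    pull f e (h * h') = pull f e h * pull f e h' := by
  apply ext
  intro o
  rw [pull_val, RingHom.comp_apply, mul_val _ _ (Coalgebra.Repr.arbitrary k o), mul_val _ _ (Coalgebra.Repr.arbitrary k o),
    map_sum]
  exact Finset.sum_congr rfl fun i _ => map_mul f _ _

theorem pull_one (f : R' →+* R'') {κ : k →+* R'} {κ' : k →+* R''} (e : f.comp κ = κ') :
    pull f e (1 : Hpt H κ) = 1 := by
  apply ext
  intro o
  rw [pull_val, RingHom.comp_apply, one_val, one_val, ← e]
  rfl

theorem pull_inv (f : R' →+* R'') {κ : k →+* R'} {κ' : k →+* R''} (e : f.comp κ = κ') (h : Hpt H κ) :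
    pull f e h⁻¹ = (pull f e h)⁻¹ := by
  refine eq_inv_of_mul_eq_one_left ?_
  rw [← pull_mul, inv_mul_cancel, pull_one]

theorem pull_cast (f : R' →+* R'') {κ κ₁ : k →+* R'} {κ' : k →+* R''} (e₁ : κ = κ₁) (e : f.comp κ₁ = κ')
    (h : Hpt H κ) : pull f e (cast e₁ h) = pull f (by rw [e₁, e]) h := rfl

theorem cast_pull (f : R' →+* R'') {κ : k →+* R'} {κ' κ₁ : k →+* R''} (e : f.comp κ = κ') (e₁ : κ' = κ₁)
    (h : Hpt H κ) : cast e₁ (pull f e h) = pull f (e.trans e₁) h := rfl

end Hpt

section Act

variable {R : Type u} [CommRing R] [Algebra k R] {M : Type u} [AddCommGroup M] [Module R M] [Module k M]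
  [IsScalarTower k R M] (x : R →+* R')

/-- the structure map of a point -/
abbrev kap (k : Type u) [CommRing k] {R : Type u} [CommRing R] [Algebra k R] (x : R →+* R') : k →+* R' :=
  x.comp (algebraMap k R)

/-- `m ⊗ o ↦ h(o) • bc m` -/
def evB (h : Hpt H (kap k x)) : M ⊗[k] H.O →+ BC x M :=
  TensorProduct.liftAddHom
    { toFun := fun m =>
        { toFun := fun o => h.1 o • bc x m
          map_zero' := by rw [map_zero, zero_smul]
          map_add' := fun o o' => by rw [map_add, add_smul] }
      map_zero' := by ext o; exact (congrArg _ (map_zero (bc x))).trans (smul_zero _)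
      map_add' := fun m m' => by ext o; exact (congrArg _ (map_add (bc x) m m')).trans (smul_add _ _ _) }
    (fun r m o => by
      change h.1 o • bc x (r • m) = h.1 (r • o) • bc x m
      have e1 : r • m = algebraMap k R r • m := by rw [algebraMap_smul]
      have e2 : h.1 (algebraMap k H.O r) = x (algebraMap k R r) := RingHom.congr_fun h.2 r
      rw [e1, LinearMap.map_smulₛₗ, Algebra.smul_def r o, map_mul, e2, smul_smul, mul_comm])

@[simp] theorem evB_tmul (h : Hpt H (kap k x)) (m : M) (o : H.O) : evB x h (m ⊗ₜ[k] o) = h.1 o • bc x m := rfl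

/-- multiplication by `r` -/
def lsm (k : Type u) [CommRing k] {R : Type u} [CommRing R] [Algebra k R] (M : Type u) [AddCommGroup M] [Module R M]
    [Module k M] [IsScalarTower k R M] (r : R) : M →ₗ[k] M :=
  ((Algebra.lsmul k R M) r : M →ₗ[R] M).restrictScalars k

@[simp] theorem lsm_apply (r : R) (m : M) : lsm k M r m = r • m := rfl

theorem evB_lsm (h : Hpt H (kap k x)) (r : R) (w : M ⊗[k] H.O) :
    evB x h ((lsm k M r).rTensor H.O w) = x r • evB x h w := by
  induction w using TensorProduct.induction_on with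
  | zero => simp
  | tmul m o => simp [smul_smul, mul_comm]
  | add a b ha hb => rw [map_add, map_add, map_add, smul_add, ha, hb]

variable (co : HopfRep.Comod k H.O M) (lin : ∀ (r : R) (m : M), co.coact (r • m) = (lsm k M r).rTensor H.O (co.coact m))

/-- the action of a point of `H` on the base change of a comodule -/
def TT (h : Hpt H (kap k x)) : BC x M →ₗ[R'] BC x M :=
  BC.lift (RingHom.id_comp x)
    { toFun := fun m => evB x h (co.coact m)
      map_add' := fun m m' => by rw [map_add, map_add]
      map_smul' := fun r m => by rw [lin, evB_lsm] }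

@[simp] theorem TT_bc (h : Hpt H (kap k x)) (m : M) : TT x co lin h (bc x m) = evB x h (co.coact m) :=
  BC.lift_bc _ _ m

theorem TT_one : TT x co lin (1 : Hpt H (kap k x)) = LinearMap.id := by
  refine BC.hom_ext fun m => ?_
  rw [TT_bc, LinearMap.id_apply]
  have h1 := LinearMap.congr_fun co.counit_comp m
  have h2 : ∀ w : M ⊗[k] H.O, evB x (1 : Hpt H (kap k x)) w =
      bc x ((TensorProduct.rid k M) ((Coalgebra.counit (R := k) (A := H.O)).lTensor M w)) := by
    intro w
    induction w using TensorProduct.induction_on with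
    | zero => simp
    | tmul m o =>
      rw [evB_tmul, Hpt.one_val, LinearMap.lTensor_tmul, TensorProduct.rid_tmul]
      have e1 : Coalgebra.counit (R := k) o • m = algebraMap k R (Coalgebra.counit o) • m := by rw [algebraMap_smul]
      rw [e1, LinearMap.map_smulₛₗ]
      rfl
    | add a b ha hb => rw [map_add, map_add, map_add, map_add, ha, hb]
  rw [h2]
  have h3 : (Coalgebra.counit (R := k) (A := H.O)).lTensor M (co.coact m) = m ⊗ₜ (1 : k) := h1
  rw [h3, TensorProduct.rid_tmul, one_smul]

/-- `(m ⊗ o) ⊗ o' ↦ (h'(o) h(o')) • bc m` -/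
theorem TT_evB (h h' : Hpt H (kap k x)) (w : M ⊗[k] H.O) :
    TT x co lin h' (evB x h w) = TensorProduct.liftAddHom
      { toFun := fun v =>
          { toFun := fun o' => h.1 o' • evB x h' v
            map_zero' := by rw [map_zero, zero_smul]
            map_add' := fun o o' => by rw [map_add, add_smul] }
        map_zero' := by ext o; exact (congrArg _ (map_zero (evB x h'))).trans (smul_zero _)
        map_add' := fun m m' => by
          ext o
          change h.1 o • evB x h' (m + m') = h.1 o • evB x h' m + h.1 o • evB x h' m'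
          rw [map_add, smul_add] }
      (fun r v o => by
        change h.1 o • evB x h' (r • v) = h.1 (r • o) • evB x h' v
        have e2 : h.1 (algebraMap k H.O r) = x (algebraMap k R r) := RingHom.congr_fun h.2 r
        have e3 : evB x h' (r • v) = x (algebraMap k R r) • evB x h' v := by
          induction v using TensorProduct.induction_on with
          | zero => simp
          | tmul m o =>
            have e1 : r • m = algebraMap k R r • m := by rw [algebraMap_smul]
            rw [TensorProduct.smul_tmul', evB_tmul, evB_tmul, e1, LinearMap.map_smulₛₗ, smul_smul, smul_smul, mul_comm]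
          | add a b ha hb => rw [smul_add, map_add, map_add, smul_add, ha, hb]
        rw [e3, Algebra.smul_def r o, map_mul, e2, smul_smul, mul_comm]) (co.coact.rTensor H.O w) := by
  induction w using TensorProduct.induction_on with
  | zero => simp
  | tmul m o =>
    rw [evB_tmul, LinearMap.map_smul, TT_bc]
    rfl
  | add a b ha hb => rw [map_add, map_add, map_add, map_add, ha, hb]

theorem TT_mul (h h' : Hpt H (kap k x)) : TT x co lin (h' * h) = TT x co lin h' ∘ₗ TT x co lin h := by
  refine BC.hom_ext fun m => ?_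
  rw [LinearMap.comp_apply, TT_bc, TT_bc, TT_evB]
  have h1 : (TensorProduct.assoc k M H.O H.O) (co.coact.rTensor H.O (co.coact m)) =
      (Coalgebra.comul (R := k) (A := H.O)).lTensor M (co.coact m) := LinearMap.congr_fun co.coassoc m
  have h2 : co.coact.rTensor H.O (co.coact m) = (TensorProduct.assoc k M H.O H.O).symm
      ((Coalgebra.comul (R := k) (A := H.O)).lTensor M (co.coact m)) := by
    rw [← h1, LinearEquiv.symm_apply_apply]
  rw [h2]
  generalize co.coact m = w
  induction w using TensorProduct.induction_on with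
  | zero => simp
  | tmul m o =>
    rw [evB_tmul, LinearMap.lTensor_tmul, Hpt.mul_val h' h (Coalgebra.Repr.arbitrary k o)]
    conv_rhs => rw [← (Coalgebra.Repr.arbitrary k o).eq, TensorProduct.tmul_sum, map_sum, map_sum]
    rw [Finset.sum_smul]
    refine Finset.sum_congr rfl fun i _ => ?_
    rw [TensorProduct.assoc_symm_tmul]
    change _ = h.1 _ • (h'.1 _ • bc x m)
    rw [smul_smul, mul_comm]
  | add a b ha hb => rw [map_add, ha, hb, map_add, map_add, map_add]

/-- the action as an equivalence -/
def TE (h : Hpt H (kap k x)) : BC x M ≃ₗ[R'] BC x M :=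
  LinearEquiv.ofLinearMap (TT x co lin h) (TT x co lin h⁻¹)
    (by rw [← TT_mul, mul_inv_cancel, TT_one]) (by rw [← TT_mul, inv_mul_cancel, TT_one])

@[simp] theorem TE_apply (h : Hpt H (kap k x)) (z : BC x M) : TE x co lin h z = TT x co lin h z := rfl

theorem TE_one : TE x co lin (1 : Hpt H (kap k x)) = LinearEquiv.refl R' _ :=
  LinearEquiv.toLinearMap_injective (TT_one x co lin)

theorem TE_mul (h h' : Hpt H (kap k x)) : TE x co lin (h' * h) = (TE x co lin h).trans (TE x co lin h') :=
  LinearEquiv.toLinearMap_injective (TT_mul x co lin h h')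

variable {x} in
theorem tr_evB (f : R' →+* R'') {x' : R →+* R''} (hx : f.comp x = x') (h : Hpt H (kap k x)) (w : M ⊗[k] H.O) :
    BC.tr f hx (evB x h w) = evB x' (h.pull f (by rw [kap, kap, ← RingHom.comp_assoc, hx])) w := by
  induction w using TensorProduct.induction_on with
  | zero => simp
  | tmul m o => rw [evB_tmul, LinearMap.map_smulₛₗ, BC.tr_bc]; rfl
  | add a b ha hb => rw [map_add, map_add, map_add, ha, hb]

variable {x} in
theorem TT_tr (f : R' →+* R'') {x' : R →+* R''} (hx : f.comp x = x') (h : Hpt H (kap k x)) (z : BC x M) :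
    TT x' co lin (h.pull f (by rw [kap, kap, ← RingHom.comp_assoc, hx])) (BC.tr f hx z) =
      BC.tr f hx (TT x co lin h z) := by
  induction z using BC.ind with
  | h0 => simp
  | h1 r m => rw [LinearMap.map_smulₛₗ, BC.tr_bc, LinearMap.map_smul, TT_bc, LinearMap.map_smul, TT_bc,
      LinearMap.map_smulₛₗ, tr_evB f hx]
  | h2 a b ha hb => rw [map_add, map_add, ha, hb, map_add, map_add]

end Act

section Nat

variable {R S : Type u} [CommRing R] [CommRing S] [Algebra k R] [Algebra k S] {M N : Type u} [AddCommGroup M]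
  [Module R M] [Module k M] [IsScalarTower k R M] [AddCommGroup N] [Module S N] [Module k N] [IsScalarTower k S N]
  (x : R →+* R') (y : S →+* R') (co : HopfRep.Comod k H.O M)
  (lin : ∀ (r : R) (m : M), co.coact (r • m) = (lsm k M r).rTensor H.O (co.coact m))
  (co' : HopfRep.Comod k H.O N) (lin' : ∀ (r : S) (m : N), co'.coact (r • m) = (lsm k N r).rTensor H.O (co'.coact m))

/-- the action commutes with equivariant maps (over different base rings) -/
theorem TT_nat (f : M →ₗ[k] N) (hf : ∀ m, co'.coact (f m) = f.rTensor H.O (co.coact m)) (F : BC x M →ₗ[R'] BC y N)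
    (hF : ∀ m, F (bc x m) = bc y (f m)) (e : kap k x = kap k y) (h : Hpt H (kap k x)) (z : BC x M) :
    F (TT x co lin h z) = TT y co' lin' (h.cast e) (F z) := by
  induction z using BC.ind with
  | h0 => simp
  | h1 r m =>
    rw [LinearMap.map_smul, LinearMap.map_smul, LinearMap.map_smul, LinearMap.map_smul, hF, TT_bc, TT_bc, hf]
    congr 1
    generalize co.coact m = w
    induction w using TensorProduct.induction_on with
    | zero => simp
    | tmul m o => rw [evB_tmul, LinearMap.map_smul, hF, LinearMap.rTensor_tmul, evB_tmul]; rfl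
    | add a b ha hb => rw [map_add, map_add, map_add, map_add, ha, hb]
  | h2 a b ha hb => rw [map_add, map_add, ha, hb, map_add, map_add]

end Nat

end Groth.Agent.ResProp.EF.K343
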