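import Groth.Agent.ResProp.EF.K343.Gpd
import Groth.Agent.ResProp.EF.K343.Hpt
import Groth.Agent.ResProp.EF.Arch

/-!
# The groupoid of points of `(Γ, H)` (W3a)

`gpdAH hA H : PGpd A⟨0⟩`: arrows `x → y` are pairs `(g, h)`, `g : A⟨1⟩ →+* R'` from `x` to `y`, `h : H.O →+* R'` over `k`;
`comp (g, h) (g', h') = (g g', h' * h)`.
-/

set_option autoImplicit false
set_option linter.dupNamespace false

open CategoryTheory Opposite TensorProduct

noncomputable section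

namespace Groth.Agent.ResProp.EF.K343

open K784.BC K784.PM K741.RP EF56 K980 Grp Arch

universe u

variable {k : Type u} [CommRing k] {A : NFᵒᵖ ⥤ CommRingCat.{u}} [GRF k A] (H : Gp k)
  {R' : Type u} [CommRing R'] {R'' : Type u} [CommRing R'']

theorem kap_rg {a b : NF} (φ : a ⟶ b) (z : A.obj (op a) →+* R') :
    kap k (z.comp (rg A φ)) = kap k z := by
  ext r
  exact congrArg z (GRF.map_k φ r)

theorem Ar.kap_eq {x y : A.obj (op ⟨0⟩) →+* R'} (a : Ar A x y) : kap k y = kap k x := by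
  have h1 : kap k (a.1.comp (rg A (lst ⟨0⟩))) = kap k (a.1.comp (rg A (pr ⟨0⟩))) := by rw [kap_rg, kap_rg]
  rwa [a.2.1, a.2.2] at h1

theorem kap_comp (f : R' →+* R'') {a : NF} (z : A.obj (op a) →+* R') : f.comp (kap k z) = kap k (f.comp z) := rfl

/-- arrows of `(Γ, H)` -/
@[ext] structure ArH (x y : A.obj (op ⟨0⟩) →+* R') : Type u where
  /-- the `Γ`-part -/
  g : Ar A x y
  /-- the `H`-part -/
  h : Hpt H (kap k x)

variable {H}

namespace ArH

/-- identities -/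
def one (x : A.obj (op ⟨0⟩) →+* R') : ArH H x x := ⟨Ar.one x, 1⟩

/-- composition -/
def mul (hA : GR A) {x y z : A.obj (op ⟨0⟩) →+* R'} (a : ArH H x y) (b : ArH H y z) : ArH H x z :=
  ⟨a.g.mul hA b.g, b.h.cast a.g.kap_eq * a.h⟩

/-- inverses -/
def inv {x y : A.obj (op ⟨0⟩) →+* R'} (a : ArH H x y) : ArH H y x :=
  ⟨a.g.inv, (a.h.cast a.g.kap_eq.symm)⁻¹⟩

/-- functoriality -/
def pull (f : R' →+* R'') {x y : A.obj (op ⟨0⟩) →+* R'} {x' y' : A.obj (op ⟨0⟩) →+* R''} (hx : f.comp x = x')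
    (hy : f.comp y = y') (a : ArH H x y) : ArH H x' y' :=
  ⟨a.g.pull f hx hy, a.h.pull f (by rw [kap_comp, hx])⟩

/-- a pure `Γ`-arrow -/
def ofG {x y : A.obj (op ⟨0⟩) →+* R'} (a : Ar A x y) : ArH H x y := ⟨a, 1⟩

/-- a pure `H`-arrow -/
def ofH {x : A.obj (op ⟨0⟩) →+* R'} (h : Hpt H (kap k x)) : ArH H x x := ⟨Ar.one x, h⟩

end ArH

/-- **the groupoid of points of `(Γ, H)`** -/
def gpdAH (hA : GR A) (H : Gp k) : PGpd.{u} (A.obj (op ⟨0⟩)) where
  Hom x y := ArH H x y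
  id x := ArH.one x
  comp a b := a.mul hA b
  inv a := a.inv
  id_comp a := ArH.ext (a.g.one_mul hA) (by
    change Hpt.cast _ a.h * 1 = a.h
    rw [_root_.mul_one]; rfl)
  comp_id a := ArH.ext (a.g.mul_one hA) (by
    change Hpt.cast _ 1 * a.h = a.h
    rw [Hpt.cast_one, _root_.one_mul])
  comp_assoc a b c := ArH.ext (a.g.mul_assoc hA b.g c.g) (by
    change Hpt.cast _ c.h * (Hpt.cast _ b.h * a.h) = Hpt.cast _ (Hpt.cast _ c.h * b.h) * a.h
    rw [Hpt.cast_mul, _root_.mul_assoc]; rfl)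
  comp_inv a := ArH.ext (a.g.mul_inv hA) (by
    change Hpt.cast _ (Hpt.cast _ a.h)⁻¹ * a.h = 1
    rw [Hpt.cast_inv, Hpt.cast_cast, Hpt.cast_rfl, inv_mul_cancel])
  inv_comp a := ArH.ext (a.g.inv_mul hA) (by
    change Hpt.cast _ a.h * (Hpt.cast _ a.h)⁻¹ = 1
    rw [mul_inv_cancel])
  pull f _ _ _ _ hx hy a := a.pull f hx hy
  pull_id f x x' hx := ArH.ext ((gpdA hA).pull_id f hx) (Hpt.pull_one f (by rw [kap_comp, hx]))
  pull_comp f x y z x' y' z' hx hy hz a b := ArH.ext (Ar.pull_mul hA f hx hy hz a.g b.g)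
    (Hpt.pull_mul f (by rw [kap_comp, hx]) (b.h.cast a.g.kap_eq) a.h)
  pull_idRing a := ArH.ext ((gpdA hA).pull_idRing a.g) (Hpt.ext fun _ => rfl)
  pull_pull f g x y x' y' x'' y'' hx hy hx' hy' hx'' hy'' a :=
    ArH.ext ((gpdA hA).pull_pull f g hx hy hx' hy' hx'' hy'' a.g) (Hpt.ext fun _ => rfl)

/-- the `Γ`-part -/
def toG {hA : GR A} {x y : A.obj (op ⟨0⟩) →+* R'} (a : (gpdAH hA H).Hom x y) : Ar A x y := ArH.g a

/-- the `H`-part -/
def toH {hA : GR A} {x y : A.obj (op ⟨0⟩) →+* R'} (a : (gpdAH hA H).Hom x y) : Hpt H (kap k x) := ArH.h a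

/-- arrows from their parts -/
def mkGH (hA : GR A) {x y : A.obj (op ⟨0⟩) →+* R'} (a : Ar A x y) (h : Hpt H (kap k x)) : (gpdAH hA H).Hom x y := ⟨a, h⟩

theorem gpdAH_ext {hA : GR A} {x y : A.obj (op ⟨0⟩) →+* R'} {a b : (gpdAH hA H).Hom x y} (h1 : toG a = toG b)
    (h2 : toH a = toH b) : a = b := ArH.ext h1 h2

@[simp] theorem toG_comp {hA : GR A} {x y z : A.obj (op ⟨0⟩) →+* R'} (a : (gpdAH hA H).Hom x y)
    (b : (gpdAH hA H).Hom y z) : toG ((gpdAH hA H).comp a b) = (toG a).mul hA (toG b) := rfl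

@[simp] theorem toH_comp {hA : GR A} {x y z : A.obj (op ⟨0⟩) →+* R'} (a : (gpdAH hA H).Hom x y)
    (b : (gpdAH hA H).Hom y z) : toH ((gpdAH hA H).comp a b) = (toH b).cast (toG a).kap_eq * toH a := rfl

@[simp] theorem toG_id {hA : GR A} (x : A.obj (op ⟨0⟩) →+* R') : toG ((gpdAH hA H).id x) = Ar.one x := rfl

@[simp] theorem toH_id {hA : GR A} (x : A.obj (op ⟨0⟩) →+* R') : toH ((gpdAH hA H).id x) = 1 := rfl

@[simp] theorem toG_pull {hA : GR A} (f : R' →+* R'') {x y : A.obj (op ⟨0⟩) →+* R'} {x' y' : A.obj (op ⟨0⟩) →+* R''}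
    (hx : f.comp x = x') (hy : f.comp y = y') (a : (gpdAH hA H).Hom x y) :
    toG ((gpdAH hA H).pull f hx hy a) = (toG a).pull f hx hy := rfl

@[simp] theorem toH_pull {hA : GR A} (f : R' →+* R'') {x y : A.obj (op ⟨0⟩) →+* R'} {x' y' : A.obj (op ⟨0⟩) →+* R''}
    (hx : f.comp x = x') (hy : f.comp y = y') (a : (gpdAH hA H).Hom x y) :
    toH ((gpdAH hA H).pull f hx hy a) = (toH a).pull f (by rw [kap_comp, hx]) := rfl

/-- the inclusion of the groupoid of `Γ` -/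
def funG (hA : GR A) (H : Gp k) : PGpd.Fun (gpdA hA) (gpdAH hA H) where
  app a := (⟨a, 1⟩ : ArH H _ _)
  app_id x := rfl
  app_comp a b := ArH.ext rfl (by
    change 1 = Hpt.cast _ 1 * 1
    rw [Hpt.cast_one, _root_.mul_one])
  app_pull f x y x' y' hx hy a := ArH.ext rfl (Hpt.pull_one f (by rw [kap_comp, hx])).symm

end Groth.Agent.ResProp.EF.K343
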